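import Cfsg.Agent.H644.KGV.Defs

/-!
# Uniqueness of the multiset of eigenvalues; the eigenvalues of powers (helper671)

* `IsEig_unique`, `eig_eq` : the multiset of eigenvalues is determined by the character;
* `roots_charpoly_pow` : the roots of the characteristic polynomial of a power.
-/

set_option autoImplicit false

namespace Cfsg.Agent.H671.KGV

open Cfsg Finset Polynomial Cfsg.Agent.H644.KGV

/-- Multisets of `N`-th roots of unity with the same power sums are equal. -/
theorem multiset_eq_of_powsum {N : ℕ} (hN : 0 < N) {M M' : Multiset ℂ} (h1 : ∀ z ∈ M, z ^ N = 1)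
    (h2 : ∀ z ∈ M', z ^ N = 1) (h : ∀ i : ℕ, (M.map fun z => z ^ i).sum = (M'.map fun z => z ^ i).sum) :
    M = M' := by
  classical
  have key : ∀ (M : Multiset ℂ), (∀ z ∈ M, z ^ N = 1) → ∀ a : ℂ, a ^ N = 1 →
      ∑ i ∈ range N, a⁻¹ ^ i * (M.map fun z => z ^ i).sum = (N : ℂ) * (M.count a : ℂ) := by
    intro M hM a ha
    have ha0 : a ≠ 0 := by
      rintro rfl
      rw [zero_pow hN.ne'] at ha
      exact zero_ne_one ha
    induction M using Multiset.induction_on with
    | empty => simp
    | cons z M ih =>
      have h3 := ih fun w hw => hM w (Multiset.mem_cons_of_mem hw)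
      have h4 : ∑ i ∈ range N, a⁻¹ ^ i * ((z ::ₘ M).map fun z => z ^ i).sum =
          (∑ i ∈ range N, (a⁻¹ * z) ^ i) + ∑ i ∈ range N, a⁻¹ ^ i * (M.map fun z => z ^ i).sum := by
        rw [← Finset.sum_add_distrib]
        refine Finset.sum_congr rfl fun i _ => ?_
        rw [Multiset.map_cons, Multiset.sum_cons, mul_add, mul_pow]
      rw [h4, h3, Multiset.count_cons]
      have hz := hM z (Multiset.mem_cons_self z M)
      by_cases haz : a = z
      · rw [if_pos haz, ← haz, inv_mul_cancel₀ ha0]
        simp only [one_pow, Finset.sum_const, Finset.card_range, nsmul_eq_mul, mul_one]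
        push_cast
        ring
      · rw [if_neg haz]
        have h5 : a⁻¹ * z ≠ 1 := by
          intro h5
          apply haz
          field_simp at h5
          exact h5.symm
        have h6 : (a⁻¹ * z) ^ N = 1 := by rw [mul_pow, inv_pow, ha, hz, inv_one, one_mul]
        have h7 := mul_geom_sum (a⁻¹ * z) N
        rw [h6, sub_self] at h7
        rw [(mul_eq_zero.1 h7).resolve_left (sub_ne_zero.2 h5), zero_add, add_zero]
  ext a
  by_cases ha : a ^ N = 1
  · have h3 := key M h1 a ha
    have h4 := key M' h2 a ha
    simp only [h] at h3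
    rw [h3] at h4
    have hN0 : (N : ℂ) ≠ 0 := Nat.cast_ne_zero.2 hN.ne'
    exact_mod_cast mul_left_cancel₀ hN0 h4
  · rw [Multiset.count_eq_zero_of_notMem fun h3 => ha (h1 a h3),
      Multiset.count_eq_zero_of_notMem fun h3 => ha (h2 a h3)]

theorem isEig_unique {G : Type*} [Group G] [Finite G] {χ : G → ℂ} {g : G} {M M' : Multiset ℂ}
    (h : IsEig χ g M) (h' : IsEig χ g M') : M = M' :=
  multiset_eq_of_powsum (orderOf_pos g) h.1 h'.1 fun i => by rw [← h.2, ← h'.2]

theorem eig_eq {G : Type*} [Group G] [Finite G] {χ : G → ℂ} {g : G} {M : Multiset ℂ}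
    (h : IsEig χ g M) : eig χ g = M := by
  classical
  have h1 : ∃ M, IsEig χ g M := ⟨M, h⟩
  have h2 : eig χ g = h1.choose := by
    unfold eig
    rw [dif_pos h1]
  rw [h2]
  exact isEig_unique h1.choose_spec h

/-! ### powers of an endomorphism -/

/-- The determinant of a polynomial in an endomorphism. -/
theorem det_aeval {k : Type*} [Field k] [IsAlgClosed k] {W : Type*} [AddCommGroup W] [Module k W]
    [FiniteDimensional k W] (f : Module.End k W) (q : k[X]) :
    LinearMap.det (aeval f q) = (f.charpoly.roots.map fun r => q.eval r).prod := by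
  classical
  have hX : ∀ c : k, LinearMap.det (aeval f (X - C c)) = (f.charpoly.roots.map fun r => r - c).prod := by
    intro c
    have h1 : aeval f (X - C c) = -(algebraMap k (Module.End k W) c - f) := by
      rw [map_sub, aeval_X, aeval_C, neg_sub]
    have h2 := LinearMap.eval_charpoly f c
    rw [h1, ← neg_one_smul k, LinearMap.det_smul, ← h2]
    conv_lhs => rw [(IsAlgClosed.splits f.charpoly).eq_prod_roots_of_monic (LinearMap.charpoly_monic f)]
    rw [eval_multiset_prod, Multiset.map_map]
    have h3 : Module.finrank k W = Multiset.card f.charpoly.roots := by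
      rw [IsAlgClosed.card_roots_eq_natDegree, LinearMap.charpoly_natDegree]
    rw [h3, ← Multiset.prod_replicate, ← Multiset.map_const', ← Multiset.prod_map_mul]
    congr 1
    refine Multiset.map_congr rfl fun r _ => ?_
    simp
  have hC : ∀ c : k, LinearMap.det (aeval f (C c)) = (f.charpoly.roots.map fun _ => c).prod := by
    intro c
    rw [aeval_C, Algebra.algebraMap_eq_smul_one, LinearMap.det_smul, map_one, mul_one, Multiset.map_const',
      Multiset.prod_replicate, IsAlgClosed.card_roots_eq_natDegree, LinearMap.charpoly_natDegree]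
  by_cases hq : q = 0
  · rw [hq, ← C_0, hC]
    simp
  have h1 : q = C q.leadingCoeff * (q.roots.map fun a => X - C a).prod :=
    ((IsAlgClosed.splits q).eq_prod_roots)
  have h2 : ∀ s : Multiset k, LinearMap.det (aeval f (s.map fun a => X - C a).prod) =
      (f.charpoly.roots.map fun r => ((s.map fun a => X - C a).prod).eval r).prod := by
    intro s
    induction s using Multiset.induction_on with
    | empty => simp
    | cons a s ih =>
      rw [Multiset.map_cons, Multiset.prod_cons, map_mul, map_mul, ih, hX, ← Multiset.prod_map_mul]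
      congr 1
      refine Multiset.map_congr rfl fun r _ => ?_
      rw [eval_mul, eval_sub, eval_X, eval_C]
  rw [h1, map_mul, map_mul, hC, h2, ← Multiset.prod_map_mul]
  congr 1
  refine Multiset.map_congr rfl fun r _ => ?_
  rw [eval_mul, eval_C]

/-- The roots of the characteristic polynomial of a power. -/
theorem roots_charpoly_pow {k : Type*} [Field k] [IsAlgClosed k] {W : Type*} [AddCommGroup W] [Module k W]
    [FiniteDimensional k W] (f : Module.End k W) (n : ℕ) :
    (f ^ n).charpoly.roots = f.charpoly.roots.map fun r => r ^ n := by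
  classical
  have h1 : (f ^ n).charpoly = ((f.charpoly.roots.map fun r => r ^ n).map fun a => X - C a).prod := by
    refine Polynomial.funext fun t => ?_
    rw [LinearMap.eval_charpoly, eval_multiset_prod, Multiset.map_map, Multiset.map_map]
    have h2 : algebraMap k (Module.End k W) t - f ^ n = aeval f (C t - X ^ n) := by
      rw [map_sub, map_pow, aeval_X, aeval_C]
    rw [h2, det_aeval]
    congr 1
    refine Multiset.map_congr rfl fun r _ => ?_
    simp
  rw [h1, roots_multiset_prod_X_sub_C]

end Cfsg.Agent.H671.KGV
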