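import Cfsg.Agent.H671.KGV.Eig
import Cfsg.Agent.H644.KGV.Goals
import Cfsg.Agent.H699.IBrGen
import Cfsg.Agent.Blocks.ExistsModular

/-!
# The Brauer lift of an elementary abelian group with operators of order prime to `p` (helper671)

* `isEig_bc` : the eigenvalues of a Brauer character;
* `lift_aux` : the Brauer lift of an action;
* `brauerLift` : the goal `BrauerLift`.
-/

set_option autoImplicit false

universe u

namespace Cfsg.Agent.H671.KGV

open Cfsg Polynomial IsLocalRing Module Cfsg.Agent.H657 Cfsg.Agent.H644.KGV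
open scoped TensorProduct

attribute [local instance] Above.isAlgClosed

section lift

variable {V : ValuationSubring ℂ} {p : ℕ} [Fact p.Prime] [CharP (ResidueField V) p]

theorem lift_pow_eq {r : ResidueField V} (hr : IsRU p r) (i : ℕ) :
    lift p (r ^ i) = (lift p r) ^ i := by
  obtain ⟨z, ⟨m, hm, hz⟩, rfl, h3⟩ := lift_spec (p := p) (r := r) hr
  rw [h3, ← map_pow]
  have h4 : IsRU p ((z ^ i : V) : ℂ) := ⟨m, hm, by push_cast; rw [← pow_mul, mul_comm, pow_mul, hz, one_pow]⟩
  rw [lift_residue h4]
  push_cast
  rfl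

omit [CharP (ResidueField V) p] in
theorem isRU_one : IsRU p (1 : ℂ) := ⟨1, fun h => (Fact.out : p.Prime).one_lt.ne' (Nat.dvd_one.1 h), one_pow 1⟩

theorem lift_one : lift p (1 : ResidueField V) = 1 := by
  have h2 := lift_residue (V := V) (p := p) (z := 1) (by simpa using isRU_one (p := p))
  rw [map_one] at h2
  simpa using h2

theorem lift_eq_one {r : ResidueField V} (hr : IsRU p r) (h : lift p r = 1) : r = 1 := by
  obtain ⟨z, -, h2, h3⟩ := lift_spec (p := p) (r := r) hr
  rw [h3] at h
  have : z = 1 := Subtype.ext (by simpa using h)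
  rw [← h2, this, map_one]

theorem root_pow {G : Type*} [Group G] {k : Type*} [Field k] {W : Type*} [AddCommGroup W] [Module k W]
    [FiniteDimensional k W] (σ : Representation k G W) {g : G} {n : ℕ} (hg : g ^ n = 1) {r : k}
    (hr : r ∈ (LinearMap.charpoly (σ g)).roots) : r ^ n = 1 := by
  rw [mem_roots (LinearMap.charpoly_monic _).ne_zero, ← Module.End.hasEigenvalue_iff_isRoot_charpoly] at hr
  obtain ⟨v, hv⟩ := hr.exists_hasEigenvector
  have h2 : ∀ n : ℕ, ((σ g) ^ n) v = r ^ n • v := by
    intro n
    induction n with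
    | zero => simp
    | succ n ih =>
      rw [pow_succ, Module.End.mul_apply, hv.apply_eq_smul, map_smul, ih, smul_smul, pow_succ, mul_comm]
  have h3 := h2 n
  rw [← map_pow, hg, map_one, Module.End.one_apply] at h3
  by_contra hne
  have h4 : (r ^ n - 1) • v = 0 := by rw [sub_smul, ← h3, one_smul, sub_self]
  rcases smul_eq_zero.1 h4 with h5 | h5
  · exact hne (sub_eq_zero.1 h5)
  · exact hv.2 h5

/-- The eigenvalues for a Brauer character. -/
theorem isEig_bc {G : Type*} [Group G] {W : Type*} [AddCommGroup W] [Module (ResidueField V) W]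
    [FiniteDimensional (ResidueField V) W] (σ : Representation (ResidueField V) G W) {g : G}
    (hg : ¬ p ∣ orderOf g) : IsEig (bc p σ) g ((LinearMap.charpoly (σ g)).roots.map (lift p)) := by
  refine ⟨?_, ?_⟩
  · intro z hz
    obtain ⟨r, hr, rfl⟩ := Multiset.mem_map.1 hz
    have h1 := root_isRU σ hg hr
    rw [← lift_pow_eq h1, root_pow σ (pow_orderOf_eq_one g) hr, lift_one]
  · intro i
    unfold bc
    rw [map_pow, roots_charpoly_pow, Multiset.map_map, Multiset.map_map]
    congr 1
    exact Multiset.map_congr rfl fun r hr => lift_pow_eq (root_isRU σ hg hr) i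

end lift

/-- the roots of a polynomial over the prime field are permuted by the Frobenius map -/
theorem roots_frob {p : ℕ} [Fact p.Prime] {k : Type*} [Field k] [IsAlgClosed k] [CharP k p] (f : (ZMod p)[X])
    [Algebra (ZMod p) k] : (f.map (algebraMap (ZMod p) k)).roots.map (fun r => r ^ p) =
      (f.map (algebraMap (ZMod p) k)).roots := by
  classical
  have hp : p.Prime := Fact.out
  have : ExpChar k p := ExpChar.prime hp
  have : PerfectRing k p := inferInstance
  set g := f.map (algebraMap (ZMod p) k) with hg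
  have h1 : expand k p g = g ^ p := by
    rw [hg, ← map_expand, ZMod.expand_card, Polynomial.map_pow]
  have h2 := roots_expand_map_frobenius (R := k) (p := p) (f := g)
  rw [h1, roots_pow, Multiset.map_nsmul] at h2
  have h4 : g.roots.map (frobenius k p) = g.roots := by
    ext a
    have h5 := congrArg (Multiset.count a) h2
    rw [Multiset.count_nsmul, Multiset.count_nsmul] at h5
    exact Nat.eq_of_mul_eq_mul_left hp.pos h5
  exact h4

/-- extension of scalars of a representation over the prime field -/
noncomputable def bch {p : ℕ} {G : Type*} [Group G] {W : Type*} [AddCommGroup W] [Module (ZMod p) W]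
    (k : Type*) [Field k] [Algebra (ZMod p) k] (ρ : Representation (ZMod p) G W) :
    Representation k G (k ⊗[ZMod p] W) where
  toFun g := (ρ g).baseChange k
  map_one' := by
    rw [map_one]
    exact LinearMap.baseChange_id
  map_mul' a b := by
    rw [map_mul]
    exact LinearMap.baseChange_comp _ _

/-- The representation attached to an action on an elementary abelian group. -/
noncomputable def actRep (p : ℕ) {A G : Type*} [CommGroup A] [Module (ZMod p) (Additive A)] [Group G]
    (φ : G →* MulAut A) : Representation (ZMod p) G (Additive A) where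
  toFun g := AddMonoidHom.toZModLinearMap p (MonoidHom.toAdditive (φ g).toMonoidHom)
  map_one' := by
    rw [map_one]
    rfl
  map_mul' a b := by
    rw [map_mul]
    rfl

theorem actRep_apply (p : ℕ) {A G : Type*} [CommGroup A] [Module (ZMod p) (Additive A)] [Group G]
    (φ : G →* MulAut A) (g : G) (a : A) : (actRep p φ g : Additive A →ₗ[ZMod p] Additive A) (Additive.ofMul a) =
      Additive.ofMul (φ g a) := rfl

/-- The generalized fixed vectors of an element of order prime to `p` are fixed. -/
theorem maxGen_eq {K : Type*} [Field K] {W : Type*} [AddCommGroup W] [Module K W] [FiniteDimensional K W]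
    {f : Module.End K W} {m : ℕ} (hm : (m : K) ≠ 0) (hf : f ^ m = 1) :
    f.maxGenEigenspace 1 = LinearMap.ker (f - 1) := by
  apply le_antisymm
  · intro w hw
    rw [Module.End.mem_maxGenEigenspace] at hw
    obtain ⟨j, hj⟩ := hw
    rw [one_smul] at hj
    have hcop : IsCoprime ((X - 1 : K[X]) ^ j) (∑ i ∈ Finset.range m, (X : K[X]) ^ i) := by
      apply IsCoprime.pow_left
      have h1 : (X - 1 : K[X]) = X - C 1 := by rw [map_one]
      rw [h1, (Polynomial.irreducible_X_sub_C (1 : K)).coprime_iff_not_dvd, dvd_iff_isRoot, IsRoot.def,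
        eval_finsetSum]
      simpa using hm
    obtain ⟨a, b, hab⟩ := hcop
    have hgeo : (∑ i ∈ Finset.range m, (X : K[X]) ^ i) * (X - 1) = X ^ m - 1 := geom_sum_mul X m
    have h2 : aeval f ((X - 1 : K[X])) = f - 1 := by rw [map_sub, aeval_X, map_one]
    have h3 : (f - 1 : Module.End K W) = aeval f (a * (X - 1) ^ j * (X - 1) + b * (X ^ m - 1)) := by
      rw [← h2]
      congr 1
      rw [← hgeo]
      calc (X - 1 : K[X]) = 1 * (X - 1) := (one_mul _).symm
        _ = (a * (X - 1) ^ j + b * ∑ i ∈ Finset.range m, X ^ i) * (X - 1) := by rw [hab]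
        _ = _ := by ring
    have h4 : aeval f (X ^ m - 1 : K[X]) = 0 := by rw [map_sub, map_pow, aeval_X, map_one, hf, sub_self]
    have h5 : aeval f (a * (X - 1) ^ j * (X - 1) + b * (X ^ m - 1) : K[X]) =
        aeval f a * (f - 1) * (f - 1) ^ j := by
      rw [map_add, map_mul (aeval f) b, h4, mul_zero, add_zero, map_mul, map_mul, map_pow, h2, mul_assoc,
        mul_assoc, ← pow_succ, ← pow_succ']
    rw [LinearMap.mem_ker, h3, h5, Module.End.mul_apply, hj, map_zero]
  · intro w hw
    rw [Module.End.mem_maxGenEigenspace]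
    exact ⟨1, by rw [pow_one, one_smul]; exact hw⟩

theorem lift_aux (p : ℕ) [Fact p.Prime] (A : Type u) [CommGroup A] [Finite A] [Module (ZMod p) (Additive A)]
    (G : Type u) [Group G] [Finite G] (hG : ¬ p ∣ Nat.card G) (φ : G →* MulAut A) :
    ∃ β : G → ℂ, IsCharacter G β ∧ (∀ g : G, β (g ^ p) = β g) ∧ ∃ n : ℕ, Nat.card A = p ^ n ∧
      ∀ g : G, (eig β g).card = n ∧ Nat.card {a : A // φ g a = a} = p ^ ((eig β g).count 1) := by
  classical
  have hp : p.Prime := Fact.out
  obtain ⟨M, hM⟩ := Cfsg.Agent.Blocks.ExistsModular.exists_isPModular hp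
  obtain ⟨V, hV⟩ := exists_above hM
  have hchar : CharP (ResidueField V) p := hV.charP hM
  let _ : Algebra (ZMod p) (ResidueField V) := ZMod.algebra _ p
  set ρ : Representation (ZMod p) G (Additive A) := actRep p φ with hρ0
  have hρ : ∀ g (a : A), ρ g (Additive.ofMul a) = Additive.ofMul (φ g a) := actRep_apply p φ
  set σ := bch (ResidueField V) ρ with hσ
  have hreg : ∀ g : G, ¬ p ∣ orderOf g := fun g h => hG (h.trans (orderOf_dvd_natCard g))
  have : Module.Finite (ZMod p) (Additive A) := Module.Finite.of_finite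
  have hcp : ∀ g, LinearMap.charpoly (σ g) = (LinearMap.charpoly (ρ g)).map (algebraMap (ZMod p) (ResidueField V)) :=
    fun g => LinearMap.charpoly_baseChange (ρ g) (ResidueField V)
  have heig : ∀ g, IsEig (bc p σ) g ((LinearMap.charpoly (σ g)).roots.map (lift p)) := fun g => isEig_bc σ (hreg g)
  refine ⟨bc p σ, Cfsg.Agent.H699.IBrLift.isCharacter_bc hM hV hG σ, ?_, finrank (ZMod p) (Additive A), ?_, ?_⟩
  · intro g
    rw [(heig g).2 p, Multiset.map_map]
    have h1 : (LinearMap.charpoly (σ g)).roots.map ((fun z => z ^ p) ∘ lift p) =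
        ((LinearMap.charpoly (σ g)).roots.map fun r => r ^ p).map (lift p) := by
      rw [Multiset.map_map]
      exact Multiset.map_congr rfl fun r hr => (lift_pow_eq (root_isRU σ (hreg g) hr) p).symm
    rw [h1, hcp, roots_frob, ← hcp]
    rfl
  · have h1 := Module.natCard_eq_pow_finrank (K := ZMod p) (V := Additive A)
    rwa [Nat.card_zmod] at h1
  · intro g
    rw [eig_eq (heig g)]
    refine ⟨?_, ?_⟩
    · rw [Multiset.card_map, hcp, IsAlgClosed.card_roots_eq_natDegree, Polynomial.natDegree_map,
        LinearMap.charpoly_natDegree]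
    · have h1 : ((LinearMap.charpoly (σ g)).roots.map (lift p)).count 1 =
          (LinearMap.charpoly (σ g)).roots.count 1 := by
        rw [Multiset.count_map, Multiset.count_eq_card_filter_eq]
        congr 1
        refine Multiset.filter_congr fun r hr => ?_
        constructor
        · intro h
          exact (lift_eq_one (root_isRU σ (hreg g) hr) h.symm).symm
        · rintro rfl
          exact lift_one.symm
      have hgm : ((orderOf g : ℕ) : ZMod p) ≠ 0 := fun h => hreg g ((ZMod.natCast_eq_zero_iff _ _).1 h)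
      have hpow : (ρ g) ^ orderOf g = 1 := by rw [← map_pow, pow_orderOf_eq_one, map_one]
      have h2 : (LinearMap.charpoly (σ g)).roots.count 1 = finrank (ZMod p) (LinearMap.ker (ρ g - 1)) := by
        rw [count_roots, hcp, ← maxGen_eq hgm hpow, LinearMap.finrank_maxGenEigenspace_eq,
          Polynomial.eq_rootMultiplicity_map (FaithfulSMul.algebraMap_injective (ZMod p) (ResidueField V)),
          map_one]
      rw [h1, h2]
      have h3 := Module.natCard_eq_pow_finrank (K := ZMod p) (V := LinearMap.ker (ρ g - 1))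
      rw [Nat.card_zmod] at h3
      rw [← h3]
      refine Nat.card_congr ⟨fun a => ⟨Additive.ofMul a.1, ?_⟩, fun a => ⟨a.1.toMul, ?_⟩, fun a => rfl, fun a => rfl⟩
      · rw [LinearMap.mem_ker, LinearMap.sub_apply, hρ, a.2, Module.End.one_apply, sub_self]
      · have h4 := a.2
        rw [LinearMap.mem_ker, LinearMap.sub_apply, Module.End.one_apply, sub_eq_zero, ← ofMul_toMul (a : Additive A),
          hρ] at h4
        exact Additive.ofMul.injective h4

/-- **The Brauer lift.** -/
theorem brauerLift : BrauerLift.{u} := by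
  intro p _ X _ _ V G _ h1 h2 hG
  let _ : CommGroup V := { (inferInstance : Group V) with
    mul_comm := fun a b => Subtype.ext (h2 _ a.2 _ b.2) }
  let _ : Module (ZMod p) (Additive V) := AddCommGroup.zmodModule fun a => by
    have h3 : a.toMul ^ p = 1 := Subtype.ext (by simpa using h1 _ a.toMul.2)
    rw [← ofMul_toMul a, ← ofMul_pow, h3, ofMul_one]
  let φ : G →* MulAut V := (MulAut.conjNormal (H := V)).comp G.subtype
  obtain ⟨β, hβ1, hβ2, n, hn, hβ3⟩ := lift_aux p V G hG φ
  refine ⟨β, hβ1, hβ2, n, hn, fun g => ⟨(hβ3 g).1, ?_⟩⟩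
  rw [← (hβ3 g).2]
  refine Nat.card_congr ⟨fun a => ⟨⟨a.1, a.2.1⟩, ?_⟩, fun a => ⟨a.1.1, a.1.2, ?_⟩, fun a => rfl, fun a => rfl⟩
  · apply Subtype.ext
    have h3 := Subgroup.mem_centralizer_singleton_iff.1 a.2.2
    show (g : X) * a.1 * (g : X)⁻¹ = a.1
    rw [mul_inv_eq_iff_eq_mul]
    first | exact h3 | exact h3.symm
  · have h3 : (g : X) * a.1.1 * (g : X)⁻¹ = a.1.1 := congrArg Subtype.val a.2
    rw [mul_inv_eq_iff_eq_mul] at h3
    apply Subgroup.mem_centralizer_singleton_iff.2
    first | exact h3 | exact h3.symm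

end Cfsg.Agent.H671.KGV
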